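import Cfsg.Agent.S1498
import Cfsg.Agent.Lib.Char.Orthogonality
import Mathlib.Tactic

/-! The Dade hypothesis: the Dade map and the summation formula over its support. -/

set_option autoImplicit false

namespace Cfsg.Agent.Lib.Dade

open Cfsg Cfsg.Agent.Lib.Char
open scoped ComplexConjugate

variable {G : Type*} [Group G] {A : Set G} {L : Subgroup G} {H : G → Subgroup G}

theorem mem_inf_centralizer (hD : DadeHypothesis A L H) {a : G} (ha : a ∈ A) :
    a ∈ L ⊓ Subgroup.centralizer ({a} : Set G) :=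
  ⟨hD.subset ha, Subgroup.mem_centralizer_singleton_iff.mpr rfl⟩

theorem orderOf_coprime_card (hD : DadeHypothesis A L H) {a b : G} (ha : a ∈ A) (hb : b ∈ A) :
    (orderOf a).Coprime (Nat.card (H b)) :=
  ((hD.coprime b hb a ha).coprime_dvd_right
    (Subgroup.orderOf_dvd_natCard _ (mem_inf_centralizer hD ha))).symm

theorem commute_of_mem (hD : DadeHypothesis A L H) {a u : G} (ha : a ∈ A) (hu : u ∈ H a) :
    Commute a u :=
  (Subgroup.mem_centralizer_singleton_iff.mp (hD.le_centralizer a ha hu)).symm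

theorem exists_mul_of_mem_centralizer (hD : DadeHypothesis A L H) {a c : G} (ha : a ∈ A)
    (hc : c ∈ Subgroup.centralizer ({a} : Set G)) :
    ∃ k ∈ L ⊓ Subgroup.centralizer ({a} : Set G), ∃ h ∈ H a, k * h = c := by
  set C := Subgroup.centralizer ({a} : Set G) with hC
  set K := L ⊓ C with hK
  have hn : ((H a).subgroupOf C).Normal :=
    ⟨fun n hn d => Subgroup.mem_subgroupOf.mpr (by
      simpa using hD.conj_mem_H a ha d d.2 n (Subgroup.mem_subgroupOf.mp hn))⟩
  have htop : (H a).subgroupOf C ⊔ K.subgroupOf C = ⊤ := by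
    rw [← Subgroup.subgroupOf_sup (hD.le_centralizer a ha) inf_le_right]
    show (H a ⊔ (L ⊓ Subgroup.centralizer ({a} : Set G))).subgroupOf C = ⊤
    rw [hD.sup_eq a ha, ← hC, Subgroup.subgroupOf_self]
  obtain ⟨h, hh, k, hk, hhk⟩ := Subgroup.mem_sup_of_normal_left.mp
    (htop ▸ Subgroup.mem_top (⟨c, hc⟩ : C))
  refine ⟨(k : G), Subgroup.mem_subgroupOf.mp hk, (k : G)⁻¹ * h * k, ?_, ?_⟩
  · have := hn.conj_mem h hh k⁻¹
    simpa [Subgroup.mem_subgroupOf] using this
  · have := congrArg Subtype.val hhk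
    simp only [Subgroup.coe_mul] at this
    rw [← this]; group

/-- An element carrying `a` into `A` is an element of `L` times one of `C(a)`. -/
theorem exists_L_mul_centralizer (hD : DadeHypothesis A L H) {a y : G} (ha : a ∈ A)
    (hy : y * a * y⁻¹ ∈ A) :
    ∃ l ∈ L, ∃ c ∈ Subgroup.centralizer ({a} : Set G), y = l * c := by
  obtain ⟨l, hl, he⟩ := hD.fusion a ha y hy
  refine ⟨l, hl, l⁻¹ * y, ?_, by group⟩
  rw [Subgroup.mem_centralizer_singleton_iff]
  calc l⁻¹ * y * a = l⁻¹ * (y * a * y⁻¹) * y := by group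
    _ = l⁻¹ * (l * a * l⁻¹) * y := by rw [he]
    _ = a * (l⁻¹ * y) := by group

variable [Finite G]

/-- The two parts of `a * u` are powers of it. -/
theorem conj_eq_of_conj_mul (hD : DadeHypothesis A L H) {a b u v g : G} (ha : a ∈ A) (hb : b ∈ A)
    (hu : u ∈ H a) (hv : v ∈ H b) (he : g * (a * u) * g⁻¹ = b * v) : g * a * g⁻¹ = b := by
  have hcop : (orderOf a * orderOf b).Coprime (Nat.card (H a) * Nat.card (H b)) :=
    Nat.Coprime.mul_left
      (Nat.Coprime.mul_right (orderOf_coprime_card hD ha ha) (orderOf_coprime_card hD ha hb))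
      (Nat.Coprime.mul_right (orderOf_coprime_card hD hb ha) (orderOf_coprime_card hD hb hb))
  obtain ⟨e, he1, he0⟩ := Nat.chineseRemainder hcop 1 0
  have hpow : ∀ {c d : G}, Commute c d → orderOf c ∣ orderOf a * orderOf b →
      orderOf d ∣ Nat.card (H a) * Nat.card (H b) → (c * d) ^ e = c := by
    intro c d hcd hc hd
    have h1 : c ^ e = c := by
      have := (pow_eq_pow_iff_modEq (x := c)).mpr (Nat.ModEq.of_dvd hc he1)
      rwa [pow_one] at this
    have h2 : d ^ e = 1 := orderOf_dvd_iff_pow_eq_one.mp (hd.trans (Nat.modEq_zero_iff_dvd.mp he0))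
    rw [hcd.mul_pow, h1, h2, mul_one]
  calc g * a * g⁻¹ = g * (a * u) ^ e * g⁻¹ := by
        rw [hpow (commute_of_mem hD ha hu) (dvd_mul_right _ _)
          ((Subgroup.orderOf_dvd_natCard _ hu).trans (dvd_mul_right _ _))]
    _ = (g * (a * u) * g⁻¹) ^ e := (conj_pow ..).symm
    _ = b := by
        rw [he, hpow (commute_of_mem hD hb hv) (dvd_mul_left _ _)
          ((Subgroup.orderOf_dvd_natCard _ hv).trans (dvd_mul_left _ _))]

theorem conj_mem_H_of_mem (hD : DadeHypothesis A L H) {a y u : G} (ha : a ∈ A)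
    (hy : y * a * y⁻¹ ∈ A) (hu : u ∈ H a) : y * u * y⁻¹ ∈ H (y * a * y⁻¹) := by
  obtain ⟨l, hl, c, hc, rfl⟩ := exists_L_mul_centralizer hD ha hy
  have h := S1498.conj_mem hD ha hl (hD.conj_mem_H a ha c hc u hu)
  have hca : c * a = a * c := Subgroup.mem_centralizer_singleton_iff.mp hc
  have e : l * c * a * (l * c)⁻¹ = l * a * l⁻¹ := by
    rw [mul_assoc l c a, hca]; group
  rw [e]
  simpa [mul_assoc] using h

theorem card_H_conj (hD : DadeHypothesis A L H) {a y : G} (ha : a ∈ A) (hy : y * a * y⁻¹ ∈ A) :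
    Nat.card (H (y * a * y⁻¹)) = Nat.card (H a) := by
  refine (Nat.card_congr
    { toFun := fun u : H a => (⟨y * u * y⁻¹, conj_mem_H_of_mem hD ha hy u.2⟩ : H (y * a * y⁻¹))
      invFun := fun v => ⟨y⁻¹ * v * y, ?_⟩
      left_inv := fun u => Subtype.ext (by simp [mul_assoc])
      right_inv := fun v => Subtype.ext (by simp [mul_assoc]) }).symm
  have e : y⁻¹ * (y * a * y⁻¹) * y⁻¹⁻¹ = a := by group
  have h := conj_mem_H_of_mem hD hy (y := y⁻¹) (by rw [e]; exact ha) v.2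
  rw [e, inv_inv] at h
  exact h

/-- The support of the Dade map. -/
def InSupp (A : Set G) (H : G → Subgroup G) (g : G) : Prop :=
  ∃ a ∈ A, ∃ u ∈ H a, ∃ x : G, x * g * x⁻¹ = a * u

omit [Finite G] in
theorem inSupp_conj {g : G} (y : G) (h : InSupp A H g) : InSupp A H (y * g * y⁻¹) := by
  obtain ⟨a, ha, u, hu, x, hx⟩ := h
  exact ⟨a, ha, u, hu, x * y⁻¹, by rw [← hx]; group⟩

omit [Finite G] in
theorem not_inSupp_one (hD : DadeHypothesis A L H) : ¬ InSupp A H 1 := by
  rintro ⟨a, ha, u, hu, x, hx⟩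
  have h1 : a * u = 1 := by rw [← hx]; group
  have h2 : a ∈ H a := by
    have := (H a).inv_mem hu
    rwa [← eq_inv_of_mul_eq_one_left h1] at this
  have h3 : a ∈ H a ⊓ (L ⊓ Subgroup.centralizer ({a} : Set G)) := ⟨h2, mem_inf_centralizer hD ha⟩
  rw [hD.inf_eq_bot a ha, Subgroup.mem_bot] at h3
  exact hD.one_not_mem (h3 ▸ ha)

theorem dade_apply (hD : DadeHypothesis A L H) {α : L → ℂ} (hα : IsClassFunction L α) {g x : G}
    {a : L} (ha : (a : G) ∈ A) {u : G} (hu : u ∈ H a) (hx : x * g * x⁻¹ = (a : G) * u) :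
    dadeIsometry A L H α g = α a := by
  have hex : ∃ b : ↥L, (b : G) ∈ A ∧ ∃ y : G, ∃ v ∈ H (b : G), y * g * y⁻¹ = (b : G) * v :=
    ⟨a, ha, x, u, hu, hx⟩
  unfold dadeIsometry
  rw [dif_pos hex]
  obtain ⟨hb, y, v, hv, hy⟩ := Classical.choose_spec hex
  have he : (y * x⁻¹) * ((a : G) * u) * (y * x⁻¹)⁻¹ = ((Classical.choose hex : L) : G) * v := by
    rw [← hx, ← hy]; group
  have h1 := conj_eq_of_conj_mul hD ha hb hu hv he
  obtain ⟨l, hl, hle⟩ := hD.fusion a ha (y * x⁻¹) (by rw [h1]; exact hb)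
  have h2 : (⟨l, hl⟩ : L) * a * (⟨l, hl⟩ : L)⁻¹ = Classical.choose hex :=
    Subtype.ext (hle.trans h1)
  rw [← h2, hα]

omit [Finite G] in
theorem dade_eq_zero (hD : DadeHypothesis A L H) (α : L → ℂ) {g : G} (hg : ¬ InSupp A H g) :
    dadeIsometry A L H α g = 0 := by
  unfold dadeIsometry
  rw [dif_neg]
  rintro ⟨a, ha, x, u, hu, hx⟩
  exact hg ⟨a, ha, u, hu, x, hx⟩

theorem isClassFunction_dade (hD : DadeHypothesis A L H) {α : L → ℂ} (hα : IsClassFunction L α) :
    IsClassFunction G (dadeIsometry A L H α) := by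
  intro g y
  by_cases hg : InSupp A H g
  · obtain ⟨a, ha, u, hu, x, hx⟩ := hg
    rw [dade_apply hD hα (a := ⟨a, hD.subset ha⟩) ha hu hx,
      dade_apply hD hα (a := ⟨a, hD.subset ha⟩) ha hu (x := x * y⁻¹)
        (g := y * g * y⁻¹) (by rw [← hx]; group)]
  · rw [dade_eq_zero hD α hg, dade_eq_zero hD α fun h => hg (by
      simpa [mul_assoc] using inSupp_conj y⁻¹ h)]

/-- The number of elements carrying `a` into `A`. -/
theorem card_conj_into (hD : DadeHypothesis A L H) {a : G} (ha : a ∈ A) :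
    Nat.card {y : G // y * a * y⁻¹ ∈ A} = Nat.card L * Nat.card (H a) := by
  rw [← Nat.card_prod]
  symm
  refine Nat.card_congr (Equiv.ofBijective (fun p : L × H a =>
    (⟨(p.1 : G) * p.2, ?_⟩ : {y : G // y * a * y⁻¹ ∈ A})) ⟨fun p q h => ?_, fun y => ?_⟩)
  · have e : (p.1 : G) * p.2 * a * ((p.1 : G) * p.2)⁻¹ = (p.1 : G) * a * (p.1 : G)⁻¹ := by
      rw [mul_assoc (p.1 : G) (p.2 : G) a, ← (commute_of_mem hD ha p.2.2).eq]; group
    rw [e]
    exact hD.conj_mem _ p.1.2 a ha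
  · have h' : (p.1 : G) * p.2 = (q.1 : G) * q.2 := congrArg Subtype.val h
    have h1 : (q.1 : G)⁻¹ * p.1 = (q.2 : G) * (p.2 : G)⁻¹ := by
      rw [eq_mul_inv_iff_mul_eq, mul_assoc, h']; group
    have hm : (q.2 : G) * (p.2 : G)⁻¹ ∈ H a := (H a).mul_mem q.2.2 ((H a).inv_mem p.2.2)
    have h2 : (q.1 : G)⁻¹ * p.1 ∈ H a ⊓ (L ⊓ Subgroup.centralizer ({a} : Set G)) :=
      ⟨h1 ▸ hm, L.mul_mem (L.inv_mem q.1.2) p.1.2, h1 ▸ hD.le_centralizer a ha hm⟩
    rw [hD.inf_eq_bot a ha, Subgroup.mem_bot] at h2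
    rw [h2, eq_comm, mul_inv_eq_one] at h1
    exact Prod.ext (Subtype.ext (inv_mul_eq_one.mp h2).symm) (Subtype.ext h1.symm)
  · obtain ⟨l, hl, c, hc, hy⟩ := exists_L_mul_centralizer hD ha y.2
    obtain ⟨k, hk, h, hh, hkh⟩ := exists_mul_of_mem_centralizer hD ha hc
    exact ⟨(⟨l * k, L.mul_mem hl hk.1⟩, ⟨h, hh⟩), Subtype.ext (by
      show l * k * h = y.1
      rw [hy, ← hkh, mul_assoc])⟩

/-- The mean of `F` on the coset `a H(a)`. -/
noncomputable def avgH (H : G → Subgroup G) (F : G → ℂ) (a : G) : ℂ :=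
  (Nat.card (H a) : ℂ)⁻¹ * ∑ᶠ u ∈ (H a : Set G), F (a * u)

open scoped Classical in
/-- Summation over the support of the Dade map. -/
theorem sum_supp [Fintype G] [Fintype L] (hD : DadeHypothesis A L H) {F : G → ℂ}
    (hF : IsClassFunction G F) :
    (Nat.card L : ℂ) * ∑ g ∈ Finset.univ.filter (InSupp A H), F g =
      (Nat.card G : ℂ) * ∑ a ∈ Finset.univ.filter (fun a : L => (a : G) ∈ A), avgH H F a := by
  set T : Finset (L × G × G) := Finset.univ.filter fun t => (t.1 : G) ∈ A ∧ t.2.1 ∈ H (t.1 : G)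
    with hT
  let φ : L × G × G → G := fun t => t.2.2⁻¹ * ((t.1 : G) * t.2.1) * t.2.2
  have hrhs : (Nat.card G : ℂ) * ∑ a ∈ Finset.univ.filter (fun a : L => (a : G) ∈ A), avgH H F a =
      ∑ t ∈ T, (Nat.card (H (t.1 : G)) : ℂ)⁻¹ * F (φ t) := by
    have hφ : ∀ t, F (φ t) = F ((t.1 : G) * t.2.1) := fun t => by
      have := hF ((t.1 : G) * t.2.1) t.2.2⁻¹
      simpa [φ] using this
    simp only [hφ]
    rw [Finset.mul_sum, Finset.sum_filter, hT, Finset.sum_filter, Fintype.sum_prod_type]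
    refine Finset.sum_congr rfl fun a _ => ?_
    rw [Fintype.sum_prod_type]
    split_ifs with ha
    · simp only [ha, true_and, Finset.sum_const, nsmul_eq_mul, avgH]
      rw [finsum_mem_eq_toFinset_sum, Finset.mul_sum, Finset.mul_sum,
        ← Finset.sum_filter_add_sum_filter_not Finset.univ (fun u : G => u ∈ H (a : G))]
      conv_rhs => rw [Finset.sum_eq_zero (s := Finset.univ.filter fun u : G => ¬ u ∈ H (a : G))
        (fun u hu => by rw [if_neg (Finset.mem_filter.mp hu).2, mul_zero]), add_zero]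
      refine Finset.sum_congr (by ext; simp) fun u hu => ?_
      rw [if_pos (Finset.mem_filter.mp hu).2, Finset.card_univ, ← Nat.card_eq_fintype_card]
    · simp [ha]
  rw [hrhs, ← Finset.sum_fiberwise_of_maps_to (t := Finset.univ.filter (InSupp A H)) (g := φ)
    (fun t ht => by
      obtain ⟨-, ha, hu⟩ := Finset.mem_filter.mp ht
      exact Finset.mem_filter.mpr ⟨Finset.mem_univ _, _, ha, _, hu, t.2.2, by simp [φ, mul_assoc]⟩),
    Finset.mul_sum]
  refine Finset.sum_congr rfl fun g hg => ?_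
  obtain ⟨a₀, ha₀, u₀, hu₀, x₀, hx₀⟩ := (Finset.mem_filter.mp hg).2
  have hfib : ∀ t ∈ T.filter (fun t => φ t = g),
      (t.2.2 * x₀⁻¹) * (a₀ * u₀) * (t.2.2 * x₀⁻¹)⁻¹ = (t.1 : G) * t.2.1 ∧
      (t.2.2 * x₀⁻¹) * a₀ * (t.2.2 * x₀⁻¹)⁻¹ = (t.1 : G) := by
    intro t ht
    obtain ⟨ht1, ht2⟩ := Finset.mem_filter.mp ht
    obtain ⟨-, ha, hu⟩ := Finset.mem_filter.mp ht1
    have e : (t.2.2 * x₀⁻¹) * (a₀ * u₀) * (t.2.2 * x₀⁻¹)⁻¹ = (t.1 : G) * t.2.1 := by
      rw [← hx₀, ← ht2]; simp only [φ]; group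
    exact ⟨e, conj_eq_of_conj_mul hD ha₀ ha hu₀ hu e⟩
  have hcardfib : (T.filter fun t => φ t = g).card = Nat.card L * Nat.card (H a₀) := by
    rw [← card_conj_into hD ha₀, Nat.card_eq_fintype_card, ← Finset.card_univ]
    refine Finset.card_bij (fun t ht => (⟨t.2.2 * x₀⁻¹, by
      rw [(hfib t ht).2]; exact ((Finset.mem_filter.mp (Finset.mem_filter.mp ht).1).2).1⟩ :
      {y : G // y * a₀ * y⁻¹ ∈ A})) (fun _ _ => Finset.mem_univ _) (fun t ht s hs h => ?_)
      (fun y _ => ?_)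
    · have h' : t.2.2 = s.2.2 := mul_right_cancel (congrArg Subtype.val h)
      have h1 : (t.1 : G) = s.1 := by rw [← (hfib t ht).2, ← (hfib s hs).2, h']
      have h2 : t.2.1 = s.2.1 := by
        have := (hfib t ht).1.symm
        rw [h', (hfib s hs).1, h1] at this
        exact mul_left_cancel this
      exact Prod.ext (Subtype.ext h1) (Prod.ext h2 h')
    · refine ⟨(⟨y.1 * a₀ * y.1⁻¹, hD.subset y.2⟩, y.1 * u₀ * y.1⁻¹, y.1 * x₀), ?_, Subtype.ext ?_⟩
      · refine Finset.mem_filter.mpr ⟨Finset.mem_filter.mpr ⟨Finset.mem_univ _, y.2,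
          conj_mem_H_of_mem hD ha₀ y.2 hu₀⟩, ?_⟩
        have e : x₀⁻¹ * (a₀ * u₀) * x₀ = g := by rw [← hx₀]; group
        rw [← e]; simp only [φ]; group
      · show y.1 * x₀ * x₀⁻¹ = y.1
        group
  rw [Finset.sum_congr rfl (g := fun _ => (Nat.card (H a₀) : ℂ)⁻¹ * F g) fun t ht => by
      rw [(Finset.mem_filter.mp ht).2, ← (hfib t ht).2, card_H_conj hD ha₀ (by
        rw [(hfib t ht).2]; exact ((Finset.mem_filter.mp (Finset.mem_filter.mp ht).1).2).1)],
    Finset.sum_const, hcardfib, nsmul_eq_mul, Nat.cast_mul]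
  field_simp [card_ne_zero_complex (H a₀)]

open scoped Classical in
/-- The reciprocity formula for the Dade map. -/
theorem classInner_dade [Fintype G] [Fintype L] (hD : DadeHypothesis A L H) {α : L → ℂ}
    (hα : IsClassFunction L α) (hαA : ∀ x : L, (x : G) ∉ A → α x = 0) {χ : G → ℂ}
    (hχ : IsClassFunction G χ) {ψ : L → ℂ} (hψ : ∀ a : L, (a : G) ∈ A → ψ a = avgH H χ a) :
    classInner (dadeIsometry A L H α) χ = classInner α ψ := by
  have hF : IsClassFunction G fun g => dadeIsometry A L H α g * conj (χ g) := fun g y => by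
    show dadeIsometry A L H α (y * g * y⁻¹) * conj (χ (y * g * y⁻¹)) = _
    rw [isClassFunction_dade hD hα g y, hχ g y]
  have hs := sum_supp hD hF
  rw [Finset.sum_filter_of_ne fun g _ hne => by
    by_contra h; exact hne (by rw [dade_eq_zero hD α h, zero_mul])] at hs
  have hav : ∑ a ∈ Finset.univ.filter (fun a : L => (a : G) ∈ A),
      avgH H (fun g => dadeIsometry A L H α g * conj (χ g)) a = ∑ a : L, α a * conj (ψ a) := by
    rw [Finset.sum_filter]
    refine Finset.sum_congr rfl fun a _ => ?_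
    split_ifs with ha
    · rw [hψ a ha]
      simp only [avgH, map_mul, map_inv₀, Complex.conj_natCast, finsum_mem_eq_toFinset_sum, map_sum,
        Finset.mul_sum]
      refine Finset.sum_congr rfl fun u hu => ?_
      rw [dade_apply hD hα ha (u := u) (by simpa using hu) (x := 1) (g := (a : G) * u) (by simp)]
      ring
    · rw [hαA a ha, zero_mul]
  rw [hav] at hs
  simp only [classInner]
  field_simp [card_ne_zero_complex G, card_ne_zero_complex L]
  linear_combination hs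

end Cfsg.Agent.Lib.Dade
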