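import Cfsg.Agent.Lib.Dade.Lattice
import Cfsg.Agent.Lib.Char.Degree
import Mathlib.LinearAlgebra.Finsupp.LinearCombination
import Mathlib.Tactic

/-! Isometries on lattices spanned by orthogonal sets of class functions. -/

set_option autoImplicit false

namespace Cfsg.Agent.Lib.Dade

open Cfsg Cfsg.Agent.Lib.Char
open scoped ComplexConjugate

variable {L : Type*} [Group L] {G : Type*} [Group G]

theorem zspan_add {S : Set (L → ℂ)} {α β : L → ℂ} (ha : α ∈ zspan S) (hb : β ∈ zspan S) :
    α + β ∈ zspan S := Submodule.add_mem _ ha hb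

theorem zspan_smul {S : Set (L → ℂ)} {α : L → ℂ} (n : ℤ) (ha : α ∈ zspan S) :
    n • α ∈ zspan S := Submodule.smul_mem _ n ha

theorem zspan_sub {S : Set (L → ℂ)} {α β : L → ℂ} (ha : α ∈ zspan S) (hb : β ∈ zspan S) :
    α - β ∈ zspan S := Submodule.sub_mem _ ha hb

theorem zspan_mono {S T : Set (L → ℂ)} (h : S ⊆ T) : zspan S ⊆ zspan T :=
  Submodule.span_mono h

theorem mem_zspanOn {S : Set (L → ℂ)} {α : L → ℂ} :
    α ∈ zspanOn S {1}ᶜ ↔ α ∈ zspan S ∧ α 1 = 0 := by
  refine and_congr Iff.rfl ⟨fun h => h 1 (by simp), fun h x hx => ?_⟩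
  rw [Set.mem_compl_iff, Set.mem_singleton_iff, not_not] at hx
  rwa [hx]

/-- The integer combinations vanishing at `1`, as a submodule. -/
def spanOne (S : Set (L → ℂ)) : Submodule ℤ (L → ℂ) where
  carrier := zspanOn S {1}ᶜ
  add_mem' := fun {a b} ha hb => by
    rw [mem_zspanOn] at ha hb ⊢
    exact ⟨zspan_add ha.1 hb.1, by rw [Pi.add_apply, ha.2, hb.2, add_zero]⟩
  zero_mem' := mem_zspanOn.mpr ⟨Submodule.zero_mem _, rfl⟩
  smul_mem' := fun n a ha => by
    rw [mem_zspanOn] at ha ⊢
    exact ⟨zspan_smul n ha.1, by rw [Pi.smul_apply, ha.2, smul_zero]⟩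

theorem mem_spanOne {S : Set (L → ℂ)} {α : L → ℂ} :
    α ∈ spanOne S ↔ α ∈ zspanOn S {1}ᶜ := Iff.rfl

/-- Two maps, linear on a submodule, agreeing on generators. -/
theorem eqOn_of_gens {M : Submodule ℤ (L → ℂ)} {τ τ' : (L → ℂ) → G → ℂ}
    (h1 : ∀ α ∈ M, ∀ β ∈ M, τ (α + β) = τ α + τ β) (h2 : ∀ α ∈ M, ∀ n : ℤ, τ (n • α) = n • τ α)
    (h1' : ∀ α ∈ M, ∀ β ∈ M, τ' (α + β) = τ' α + τ' β)
    (h2' : ∀ α ∈ M, ∀ n : ℤ, τ' (n • α) = n • τ' α)
    {gens : Set (L → ℂ)} (hg : gens ⊆ M) (heq : ∀ g ∈ gens, τ g = τ' g)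
    {α : L → ℂ} (hα : α ∈ Submodule.span ℤ gens) : τ α = τ' α := by
  have hle : Submodule.span ℤ gens ≤ M := Submodule.span_le.mpr hg
  induction hα using Submodule.span_induction with
  | mem x hx => exact heq x hx
  | zero =>
    have a := h2 0 M.zero_mem 0
    have b := h2' 0 M.zero_mem 0
    rw [zero_smul, zero_smul] at a b
    rw [a, b]
  | add x y hx hy ex ey => rw [h1 x (hle hx) y (hle hy), h1' x (hle hx) y (hle hy), ex, ey]
  | smul n x hx ex => rw [h2 x (hle hx), h2' x (hle hx), ex]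

variable [Fintype L] [Fintype G]

omit [Group L] [Fintype L] in
theorem isometry_zsmul {L : Type*} [Group L] [Fintype L] {S : Set (L → ℂ)}
    {τ : (L → ℂ) → G → ℂ} (h : IsLinearIsometryOn (zspan S) τ) {α : L → ℂ} (ha : α ∈ S) (n : ℤ) :
    τ (n • α) = n • τ α := h.2.1 α (zspan_subset ha) n

theorem isometry_sub {E : Submodule ℤ (L → ℂ)} {τ : (L → ℂ) → G → ℂ}
    (h : IsLinearIsometryOn (E : Set (L → ℂ)) τ) {α β : L → ℂ} (ha : α ∈ E) (hb : β ∈ E) :
    τ (α - β) = τ α - τ β := by
  rw [eq_sub_iff_add_eq, ← h.1 (α - β) (E.sub_mem ha hb) β hb, sub_add_cancel]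

theorem zspan_isometry_sub {S : Set (L → ℂ)} {τ : (L → ℂ) → G → ℂ}
    (h : IsLinearIsometryOn (zspan S) τ) {α β : L → ℂ} (ha : α ∈ zspan S) (hb : β ∈ zspan S) :
    τ (α - β) = τ α - τ β := isometry_sub (E := Submodule.span ℤ S) h ha hb

theorem zspanOn_isometry_sub {S : Set (L → ℂ)} {τ : (L → ℂ) → G → ℂ}
    (h : IsLinearIsometryOn (zspanOn S {1}ᶜ) τ) {α β : L → ℂ} (ha : α ∈ zspanOn S {1}ᶜ)
    (hb : β ∈ zspanOn S {1}ᶜ) : τ (α - β) = τ α - τ β := isometry_sub (E := spanOne S) h ha hb

theorem classInner_self_ne_zero {φ : L → ℂ} (h : φ ≠ 0) : classInner φ φ ≠ 0 :=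
  fun e => h (eq_zero_of_classInner_self φ e)

/-- A pairwise orthogonal set of nonzero functions is finite. -/
theorem finite_of_orth {S : Set (L → ℂ)} (horth : ∀ x ∈ S, ∀ y ∈ S, x ≠ y → classInner x y = 0)
    (hne : ∀ x ∈ S, x ≠ 0) : S.Finite := by
  have hli : LinearIndependent ℂ (fun x : S => (x : L → ℂ)) := by
    rw [linearIndependent_iff']
    intro s g hg i hi
    have h := congrArg (fun v => classInner v (i : L → ℂ)) hg
    simp only [classInner_sum_left, classInner_smul_left, classInner_zero_left] at h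
    rw [Finset.sum_eq_single i (fun j _ hj => by
      rw [horth j j.2 i i.2 (fun e => hj (Subtype.ext e)), mul_zero]) (fun hn => absurd hi hn)] at h
    exact (mul_eq_zero.mp h).resolve_right (classInner_self_ne_zero (hne i i.2))
  have : Finite S := hli.finite
  exact Set.toFinite S

/-- Prescribed images of an orthogonal set give an isometry. -/
theorem exists_isometry (F : Finset (L → ℂ)) (f : (L → ℂ) → G → ℂ)
    (horth : ∀ x ∈ F, ∀ y ∈ F, x ≠ y → classInner x y = 0) (hne : ∀ x ∈ F, x ≠ 0)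
    (hgen : ∀ x ∈ F, IsGeneralizedCharacter G (f x))
    (hinner : ∀ x ∈ F, ∀ y ∈ F, classInner (f x) (f y) = classInner x y) :
    ∃ T : (L → ℂ) → G → ℂ, (∀ x ∈ F, T x = f x) ∧ IsLinearIsometryOn (zspan (F : Set (L → ℂ))) T := by
  classical
  let T : (L → ℂ) → G → ℂ := fun α => ∑ x ∈ F, (classInner α x / classInner x x) • f x
  have hadd : ∀ α β, T (α + β) = T α + T β := fun α β => by
    simp only [T, classInner_add_left, add_div, add_smul, Finset.sum_add_distrib]
  have hsmul : ∀ α (n : ℤ), T (n • α) = n • T α := fun α n => by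
    rw [show n • T α = (n : ℂ) • T α from (Int.cast_smul_eq_zsmul ℂ n (T α)).symm]
    simp only [T, classInner_zsmul_left, mul_div_assoc, Finset.smul_sum, smul_smul]
  have hT : ∀ x ∈ F, T x = f x := by
    intro x hx
    simp only [T]
    rw [Finset.sum_eq_single x (fun y hy hyx => by rw [horth x hx y hy hyx.symm, zero_div, zero_smul])
      (fun hn => absurd hx hn), div_self (classInner_self_ne_zero (hne x hx)), one_smul]
  have hzero : T 0 = 0 := by simp [T, classInner_zero_left]
  refine ⟨T, hT, fun α _ β _ => hadd α β, fun α _ n => hsmul α n, fun α hα β hβ => ?_, fun α hα => ?_⟩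
  · have key : ∀ x ∈ F, ∀ β ∈ zspan (F : Set (L → ℂ)), classInner (T x) (T β) = classInner x β := by
      intro x hx β hβ
      induction hβ using Submodule.span_induction with
      | mem y hy => rw [hT x hx, hT y hy, hinner x hx y hy]
      | zero => rw [hzero, classInner_zero_right, classInner_zero_right]
      | add y z _ _ hy hz => rw [hadd, classInner_add_right, classInner_add_right, hy, hz]
      | smul n y _ hy => rw [hsmul, classInner_zsmul_right, classInner_zsmul_right, hy]
    induction hα using Submodule.span_induction with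
    | mem x hx => exact key x hx β hβ
    | zero => rw [hzero, classInner_zero_left, classInner_zero_left]
    | add y z _ _ hy hz => rw [hadd, classInner_add_left, classInner_add_left, hy, hz]
    | smul n y _ hy => rw [hsmul, classInner_zsmul_left, classInner_zsmul_left, hy]
  · induction hα using Submodule.span_induction with
    | mem x hx => rw [hT x hx]; exact hgen x hx
    | zero => rw [hzero]; exact generalized_zero
    | add y z _ _ hy hz => rw [hadd]; exact generalized_add hy hz
    | smul n y _ hy => rw [hsmul]; exact generalized_zsmul hy n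

/-- The squared length of the remainder of an orthogonal expansion. -/
theorem classInner_remainder {ι : Type*} (s : Finset ι) (u : ι → G → ℂ) (c : ι → ℂ) (x : G → ℂ)
    (horth : ∀ i ∈ s, ∀ j ∈ s, i ≠ j → classInner (u i) (u j) = 0)
    (hc : ∀ i ∈ s, classInner x (u i) = c i * classInner (u i) (u i)) :
    classInner (x - ∑ i ∈ s, c i • u i) (x - ∑ i ∈ s, c i • u i) =
      classInner x x - ∑ i ∈ s, c i * conj (c i) * classInner (u i) (u i) := by
  classical
  have h1 : ∀ i ∈ s, classInner (x - ∑ j ∈ s, c j • u j) (u i) = 0 := by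
    intro i hi
    rw [classInner_sub_left, classInner_sum_left, Finset.sum_eq_single i
      (fun j hj hji => by rw [classInner_smul_left, horth j hj i hi hji, mul_zero])
      (fun h => absurd hi h), classInner_smul_left, hc i hi, sub_self]
  have h0 : classInner (x - ∑ j ∈ s, c j • u j) (∑ i ∈ s, c i • u i) = 0 := by
    rw [classInner_sum_right]
    exact Finset.sum_eq_zero fun i hi => by rw [classInner_smul_right, h1 i hi, mul_zero]
  rw [classInner_sub_right, h0, sub_zero, classInner_sub_left, classInner_sum_left]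
  congr 1
  refine Finset.sum_congr rfl fun i hi => ?_
  rw [classInner_smul_left, classInner_conj_symm x (u i), hc i hi, map_mul]
  have h2 : conj (classInner (u i) (u i)) = classInner (u i) (u i) := (classInner_conj_symm _ _).symm
  rw [h2, mul_assoc]

/-- Bessel's inequality for a finite orthogonal system. -/
theorem bessel {ι : Type*} (s : Finset ι) (u : ι → G → ℂ) (c : ι → ℝ) (n : ι → ℝ) (x : G → ℂ) (N : ℝ)
    (hx : classInner x x = (N : ℂ))
    (horth : ∀ i ∈ s, ∀ j ∈ s, i ≠ j → classInner (u i) (u j) = 0)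
    (hn : ∀ i ∈ s, classInner (u i) (u i) = (n i : ℂ))
    (hc : ∀ i ∈ s, classInner x (u i) = (c i : ℂ) * (n i : ℂ)) :
    ∑ i ∈ s, c i ^ 2 * n i ≤ N ∧
      (∑ i ∈ s, c i ^ 2 * n i = N → x = ∑ i ∈ s, (c i : ℂ) • u i) := by
  have h := classInner_remainder s u (fun i => (c i : ℂ)) x horth
    (fun i hi => by rw [hn i hi]; exact hc i hi)
  have h2 : classInner (x - ∑ i ∈ s, (c i : ℂ) • u i) (x - ∑ i ∈ s, (c i : ℂ) • u i) =
      ((N - ∑ i ∈ s, c i ^ 2 * n i : ℝ) : ℂ) := by
    rw [h, hx]
    push_cast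
    congr 1
    refine Finset.sum_congr rfl fun i hi => ?_
    rw [hn i hi, Complex.conj_ofReal]
    ring
  refine ⟨?_, fun he => ?_⟩
  · have := classInner_self_re_nonneg (x - ∑ i ∈ s, (c i : ℂ) • u i)
    rw [h2, Complex.ofReal_re] at this
    linarith
  · rw [he, sub_self, Complex.ofReal_zero] at h2
    exact sub_eq_zero.mp (eq_zero_of_classInner_self _ h2)

theorem exists_degree {φ : L → ℂ} (h : IsCharacter L φ) (h0 : φ ≠ 0) :
    ∃ d : ℕ, 0 < d ∧ φ 1 = d := by
  obtain ⟨n, ρ, rfl⟩ := h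
  refine ⟨n, Nat.pos_of_ne_zero fun hn => h0 ?_, ?_⟩
  · subst hn
    funext g
    have : Subsingleton (Fin 0 → ℂ) := inferInstance
    show LinearMap.trace ℂ (Fin 0 → ℂ) (ρ g) = 0
    rw [show ρ g = 0 from LinearMap.ext fun v => Subsingleton.elim _ _, map_zero]
  · rw [Representation.char_one, Module.finrank_fin_fun]

omit [Fintype L] in
theorem conjFun_one {φ : L → ℂ} {d : ℕ} (h : φ 1 = d) : conjFun φ 1 = d := by
  simp [conjFun, h]

theorem classInner_conjFun (φ ψ : L → ℂ) :
    classInner (conjFun φ) (conjFun ψ) = conj (classInner φ ψ) := by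
  simp only [classInner, conjFun, map_mul, map_inv₀, map_natCast, map_sum]

omit [Group L] [Fintype L] in
theorem conjFun_conjFun {L : Type*} (φ : L → ℂ) : conjFun (conjFun φ) = φ := by
  funext x; simp [conjFun]

end Cfsg.Agent.Lib.Dade
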