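import Cfsg.Agent.Lib.Dade.Basic
import Cfsg.Agent.S1497
import Cfsg.Agent.Lib.Char.Induced
import Cfsg.Agent.Lib.CharClifford.CyclicTI
import Mathlib.Tactic

/-! Trivial intersection sets: the Dade map is induction; the cyclic case. -/

set_option autoImplicit false

namespace Cfsg.Agent.Lib.Dade

open Cfsg Cfsg.Agent.Lib.Char
open scoped ComplexConjugate

variable {G : Type*} [Group G]

open scoped Classical in
/-- With trivial `H` the Dade map is induction. -/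
theorem indFun_eq_dade [Fintype G] {A : Set G} {L : Subgroup G}
    (hD : DadeHypothesis A L (fun _ => ⊥)) {α : L → ℂ} (hα : IsClassFunction L α)
    (hαA : ∀ x : L, (x : G) ∉ A → α x = 0) :
    indFun L α = dadeIsometry A L (fun _ => ⊥) α := by
  funext g
  by_cases hg : InSupp A (fun _ => (⊥ : Subgroup G)) g
  · obtain ⟨a, ha, u, hu, x₀, hx₀⟩ := hg
    rw [Subgroup.mem_bot] at hu
    subst hu
    rw [dade_apply hD hα (a := ⟨a, hD.subset ha⟩) ha (Subgroup.one_mem _) hx₀]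
    rw [mul_one] at hx₀
    simp only [indFun]
    rw [← Equiv.sum_comp (Equiv.mulLeft x₀⁻¹)]
    have hval : ∀ x : G, extendByZero L α ((x₀⁻¹ * x)⁻¹ * g * (x₀⁻¹ * x)) =
        if x⁻¹ * a * x⁻¹⁻¹ ∈ A then α ⟨a, hD.subset ha⟩ else 0 := by
      intro x
      have e : (x₀⁻¹ * x)⁻¹ * g * (x₀⁻¹ * x) = x⁻¹ * a * x⁻¹⁻¹ := by rw [← hx₀]; group
      rw [e]
      split_ifs with h
      · rw [extendByZero_mem L α (hD.subset h)]
        obtain ⟨l, hl, hle⟩ := hD.fusion a ha x⁻¹ h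
        have h2 : (⟨l, hl⟩ : L) * ⟨a, hD.subset ha⟩ * (⟨l, hl⟩ : L)⁻¹ =
            ⟨x⁻¹ * a * x⁻¹⁻¹, hD.subset h⟩ := Subtype.ext hle
        rw [← h2]
        exact hα _ _
      · by_cases hL : x⁻¹ * a * x⁻¹⁻¹ ∈ L
        · rw [extendByZero_mem L α hL]; exact hαA _ h
        · exact extendByZero_not_mem L α hL
    rw [show (∑ x : G, extendByZero L α (((Equiv.mulLeft x₀⁻¹) x)⁻¹ * g * (Equiv.mulLeft x₀⁻¹) x)) =
      ∑ x : G, if x⁻¹ * a * x⁻¹⁻¹ ∈ A then α ⟨a, hD.subset ha⟩ else 0 from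
        Finset.sum_congr rfl fun x _ => hval x,
      ← Finset.sum_filter, Finset.sum_const, nsmul_eq_mul]
    have hcard : (Finset.univ.filter fun x : G => x⁻¹ * a * x⁻¹⁻¹ ∈ A).card = Nat.card L := by
      have h := card_conj_into hD ha
      rw [Subgroup.card_bot, mul_one] at h
      rw [← h, ← Fintype.card_subtype, ← Nat.card_eq_fintype_card]
      exact Nat.card_congr ((Equiv.inv G).subtypeEquiv fun x => Iff.rfl)
    rw [hcard, ← mul_assoc, inv_mul_cancel₀ (card_ne_zero_complex L), one_mul]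
  · rw [dade_eq_zero hD α hg]
    simp only [indFun]
    rw [Finset.sum_eq_zero fun x _ => ?_, mul_zero]
    by_cases hL : x⁻¹ * g * x ∈ L
    · rw [extendByZero_mem L α hL]
      refine hαA _ fun h => hg ⟨_, h, 1, Subgroup.one_mem _, x⁻¹, ?_⟩
      show x⁻¹ * g * x⁻¹⁻¹ = x⁻¹ * g * x * 1
      group
    · exact extendByZero_not_mem L α hL

/-- Subgroups of a finite cyclic subgroup of the same order coincide. -/
theorem eq_of_card_eq_of_cyclic [Finite G] {W X Y : Subgroup G} (hW : IsCyclic W) (hX : X ≤ W)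
    (hY : Y ≤ W) (h : Nat.card X = Nat.card Y) : X = Y := by
  classical
  have key : ∀ X Y : Subgroup G, X ≤ W → Y ≤ W → Nat.card X = Nat.card Y → X ≤ Y := by
    intro X Y hX hY h x hx
    have := Fintype.ofFinite W
    set n := Nat.card Y with hn
    have hS : (Finset.univ.filter fun w : W => w ^ n = 1).card ≤ n :=
      IsCyclic.card_pow_eq_one_le (by rw [hn]; exact Nat.card_pos)
    set T : Finset W := Finset.univ.filter fun w : W => (w : G) ∈ Y with hT
    have hTS : T ⊆ Finset.univ.filter fun w : W => w ^ n = 1 := by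
      intro w hw
      refine Finset.mem_filter.mpr ⟨Finset.mem_univ _, Subtype.ext ?_⟩
      rw [SubmonoidClass.coe_pow, OneMemClass.coe_one]
      exact orderOf_dvd_iff_pow_eq_one.mp (Subgroup.orderOf_dvd_natCard _ (Finset.mem_filter.mp hw).2)
    have hTc : T.card = n := by
      rw [hT, ← Fintype.card_subtype, ← Nat.card_eq_fintype_card, hn]
      exact Nat.card_congr (Subgroup.subgroupOfEquivOfLe hY).toEquiv
    have heq := Finset.eq_of_subset_of_card_le hTS (hS.trans hTc.ge)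
    have hxS : (⟨x, hX hx⟩ : W) ∈ T := by
      rw [heq]
      refine Finset.mem_filter.mpr ⟨Finset.mem_univ _, Subtype.ext ?_⟩
      rw [SubmonoidClass.coe_pow, OneMemClass.coe_one, ← h]
      exact orderOf_dvd_iff_pow_eq_one.mp (Subgroup.orderOf_dvd_natCard _ hx)
    exact (Finset.mem_filter.mp hxS).2
  exact le_antisymm (key X Y hX hY h) (key Y X hY hX h.symm)

variable [Finite G] {W₁ W₂ : Subgroup G}

/-- The elements of `W₁ W₂` outside both factors. -/
def cyclicV (W₁ W₂ : Subgroup G) : Set G :=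
  (↑(W₁ ⊔ W₂) : Set G) \ (↑W₁ ∪ ↑W₂)

omit [Finite G] in
theorem mem_cyclicV {g : G} : g ∈ cyclicV W₁ W₂ ↔ g ∈ W₁ ⊔ W₂ ∧ g ∉ W₁ ∧ g ∉ W₂ := by
  simp [cyclicV, not_or]

theorem dadeHypothesis_cyclic (hW : IsSelfNormalizingCyclic W₁ W₂) :
    DadeHypothesis (cyclicV W₁ W₂) (W₁ ⊔ W₂) (fun _ => ⊥) := by
  obtain ⟨h1, h2, hdisj, hcomm, hcyc, hnorm⟩ := hW
  obtain ⟨a, ha, ha1⟩ := W₁.bot_or_exists_ne_one.resolve_left h1
  obtain ⟨b, hb, hb1⟩ := W₂.bot_or_exists_ne_one.resolve_left h2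
  have habV : a * b ∈ cyclicV W₁ W₂ := by
    refine mem_cyclicV.mpr ⟨Subgroup.mul_mem_sup ha hb, fun h => hb1 ?_, fun h => ha1 ?_⟩
    · have : b ∈ W₁ ⊓ W₂ := ⟨by simpa using W₁.mul_mem (W₁.inv_mem ha) h, hb⟩
      rwa [hdisj, Subgroup.mem_bot] at this
    · have : a ∈ W₁ ⊓ W₂ := ⟨ha, by simpa using W₂.mul_mem h (W₂.inv_mem hb)⟩
      rwa [hdisj, Subgroup.mem_bot] at this
  have hcent : ∀ v ∈ cyclicV W₁ W₂, Subgroup.normalizer ({v} : Set G) = W₁ ⊔ W₂ := fun v hv =>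
    hnorm {v} (Set.singleton_subset_iff.mpr hv) (Set.singleton_nonempty v)
  have hnV : Subgroup.normalizer (cyclicV W₁ W₂) = W₁ ⊔ W₂ := hnorm _ subset_rfl ⟨_, habV⟩
  refine (S1497.result (cyclicV W₁ W₂) ⟨_, habV⟩
    (fun h => (mem_cyclicV.mp h).2.1 W₁.one_mem) (W₁ ⊔ W₂)).mp ⟨?_, hnV⟩
  intro g hg v hv hgv
  exfalso
  apply hg
  -- `g` normalises `W`, hence both factors
  have hW' : (W₁ ⊔ W₂).map (MulAut.conj g).toMonoidHom ≤ W₁ ⊔ W₂ := by
    rintro _ ⟨w, hw, rfl⟩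
    show g * w * g⁻¹ ∈ W₁ ⊔ W₂
    rw [← hcent _ hgv]
    intro n
    rw [← hcent _ hv] at hw
    have h := hw (g⁻¹ * n * g)
    simp only [Set.mem_singleton_iff] at h ⊢
    constructor
    · intro e
      subst e
      have h' : w * v * w⁻¹ = v := by
        have := (hw v).mp rfl
        simpa using this
      calc g * w * g⁻¹ * (g * v * g⁻¹) * (g * w * g⁻¹)⁻¹ = g * (w * v * w⁻¹) * g⁻¹ := by group
        _ = g * v * g⁻¹ := by rw [h']
    · intro e
      have h' : w * (g⁻¹ * n * g) * w⁻¹ = v := by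
        calc w * (g⁻¹ * n * g) * w⁻¹ = g⁻¹ * (g * w * g⁻¹ * n * (g * w * g⁻¹)⁻¹) * g := by group
          _ = v := by rw [e]; group
      rw [← h.mpr h']; group
  have hfix : ∀ X : Subgroup G, X ≤ W₁ ⊔ W₂ → X.map (MulAut.conj g).toMonoidHom = X := fun X hX =>
    eq_of_card_eq_of_cyclic hcyc ((Subgroup.map_mono hX).trans hW') hX
      (Nat.card_congr (X.equivMapOfInjective _ (MulAut.conj g).injective).toEquiv.symm)
  have hmem : ∀ (X : Subgroup G), X ≤ W₁ ⊔ W₂ → ∀ n, n ∈ X ↔ g * n * g⁻¹ ∈ X := fun X hX n =>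
    ⟨fun h => hfix X hX ▸ ⟨n, h, rfl⟩, fun h => by
      rw [← hfix X hX] at h
      obtain ⟨m, hm, e⟩ := h
      have : m = n := (MulAut.conj g).injective e
      rwa [← this]⟩
  intro n
  rw [mem_cyclicV, mem_cyclicV, ← hmem _ le_rfl n, ← hmem _ le_sup_left n, ← hmem _ le_sup_right n]

end Cfsg.Agent.Lib.Dade
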